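import Mathlib.AlgebraicGeometry.ProjectiveSpectrum.Functor
import Mathlib.AlgebraicGeometry.Morphisms.ClosedImmersion
import Mathlib.RingTheory.GradedAlgebra.RingHom

/-!
# `Proj` of a surjection of graded rings is a closed immersion
-/

set_option autoImplicit false
universe u

open CategoryTheory CategoryTheory.Limits AlgebraicGeometry TopologicalSpace HomogeneousLocalization

noncomputable section

namespace ProjClosedLib

variable {A B σ τ : Type u} [CommRing A] [SetLike σ A] [AddSubgroupClass σ A]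
  [CommRing B] [SetLike τ B] [AddSubgroupClass τ B]
  {𝒜 : ℕ → σ} {ℬ : ℕ → τ} [GradedRing 𝒜] [GradedRing ℬ] (φ : 𝒜 →+*ᵍ ℬ)

lemma exists_mem_map_eq (hs : Function.Surjective φ) {k : ℕ} {b : B} (hb : b ∈ ℬ k) :
    ∃ a ∈ 𝒜 k, φ a = b := by
  classical
  obtain ⟨a, rfl⟩ := hs b
  refine ⟨DirectSum.decompose 𝒜 a k, SetLike.coe_mem _, ?_⟩
  rw [GradedRingHom.map_directSumDecompose, DirectSum.decompose_of_mem_same ℬ hb]

lemma irrelevant_le_map (hs : Function.Surjective φ) :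
    HomogeneousIdeal.irrelevant ℬ ≤ (HomogeneousIdeal.irrelevant 𝒜).map φ := by
  classical
  intro b hb
  replace hb := (HomogeneousIdeal.mem_irrelevant_iff ℬ b).mp hb
  obtain ⟨a, rfl⟩ := hs b
  have h0 : φ (DirectSum.decompose 𝒜 a 0 : A) = 0 := by
    rw [GradedRingHom.map_directSumDecompose]
    exact hb
  have he : φ a = φ (a - (DirectSum.decompose 𝒜 a 0 : A)) := by rw [map_sub, h0, sub_zero]
  rw [he]
  refine Ideal.mem_map_of_mem _ ((HomogeneousIdeal.mem_irrelevant_iff 𝒜 _).mpr ?_)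
  rw [GradedRing.proj_apply, DirectSum.decompose_sub, DirectSum.decompose_coe]
  simp

lemma awayMap_surjective (hs : Function.Surjective φ) {t : A} {d : ℕ} (ht : t ∈ 𝒜 d) :
    Function.Surjective (Away.map φ t) := by
  intro z
  obtain ⟨k, b, hb, rfl⟩ := Away.mk_surjective ℬ (φ.map_mem ht) z
  obtain ⟨a, ha, rfl⟩ := exists_mem_map_eq φ hs hb
  exact ⟨Away.mk 𝒜 ht k a ha, Away.map_mk φ t ht k a ha⟩

lemma map_appLE_surjective (hs : Function.Surjective φ)
    (hφ : HomogeneousIdeal.irrelevant ℬ ≤ (HomogeneousIdeal.irrelevant 𝒜).map φ) {t : A} {d : ℕ}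
    (ht : t ∈ 𝒜 d) (hd : 0 < d) :
    Function.Surjective ((Proj.map φ hφ).appLE (Proj.basicOpen 𝒜 t) (Proj.basicOpen ℬ (φ t)) (by rfl)) := by
  intro y
  have : IsIso (Proj.awayToSection ℬ (φ t)) := by
    rw [← Proj.basicOpenIsoAway_hom ℬ (φ t) (φ.map_mem ht) hd]
    infer_instance
  obtain ⟨w, rfl⟩ := (ConcreteCategory.bijective_of_isIso (Proj.awayToSection ℬ (φ t))).2 y
  obtain ⟨z, rfl⟩ := awayMap_surjective φ hs ht w
  exact ⟨Proj.awayToSection 𝒜 t z,
    congrArg (fun g => g z) (Proj.awayToSection_comp_appLE φ hφ ht)⟩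

theorem isClosedImmersion_map (hs : Function.Surjective φ)
    (hφ : HomogeneousIdeal.irrelevant ℬ ≤ (HomogeneousIdeal.irrelevant 𝒜).map φ) :
    IsClosedImmersion (Proj.map φ hφ) := by
  refine IsZariskiLocalAtTarget.of_iSup_eq_top (P := @IsClosedImmersion)
    (fun t : Σ d : {d : ℕ // 0 < d}, 𝒜 d.1 => Proj.basicOpen 𝒜 (t.2 : A)) ?_ fun ⟨⟨d, hd⟩, t, ht⟩ => ?_
  · refine eq_top_iff.mpr fun x _ => ?_
    by_contra hne
    simp only [SetLike.mem_coe, Opens.mem_iSup, not_exists] at hne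
    refine x.not_irrelevant_le fun a ha => ?_
    classical
    change a ∈ x.asHomogeneousIdeal.toIdeal
    rw [← DirectSum.sum_support_decompose 𝒜 a]
    refine Ideal.sum_mem _ fun k hk => ?_
    rcases Nat.eq_zero_or_pos k with rfl | hk0
    · replace ha := (HomogeneousIdeal.mem_irrelevant_iff 𝒜 a).mp ha
      rw [GradedRing.proj_apply] at ha
      rw [ha]; exact Ideal.zero_mem _
    · by_contra hnx
      exact hne ⟨⟨k, hk0⟩, DirectSum.decompose 𝒜 a k⟩ hnx
  let U := Proj.basicOpen 𝒜 t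
  have : IsAffine U.toScheme := Proj.isAffineOpen_basicOpen 𝒜 t ht hd
  have : IsAffine (Proj.map φ hφ ⁻¹ᵁ U).toScheme := by
    change IsAffine (Proj.basicOpen ℬ (φ t)).toScheme
    exact Proj.isAffineOpen_basicOpen ℬ (φ t) (φ.map_mem ht) hd
  refine (HasAffineProperty.iff_of_isAffine (P := @IsClosedImmersion)).mpr ⟨this, ?_⟩
  have e : (Proj.map φ hφ ∣_ U).appTop = U.topIso.hom ≫
      (Proj.map φ hφ).appLE U (Proj.map φ hφ ⁻¹ᵁ U) le_rfl ≫ (Proj.map φ hφ ⁻¹ᵁ U).topIso.inv := by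
    rw [← Scheme.Hom.resLE_eq_morphismRestrict, Scheme.Hom.appTop, Scheme.Hom.resLE_app_top]
  rw [e]
  simp only [CommRingCat.hom_comp, RingHom.coe_comp]
  exact ((ConcreteCategory.bijective_of_isIso (Proj.map φ hφ ⁻¹ᵁ U).topIso.inv).2.comp
    (map_appLE_surjective φ hs hφ ht hd)).comp (ConcreteCategory.bijective_of_isIso U.topIso.hom).2

end ProjClosedLib

end
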