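import Groth.Agent.ProjClosedLib.Frac
import Groth.Agent.ProjClosedLib.Map
import Mathlib.RingTheory.GradedAlgebra.Homogeneous.Ideal

/-!
# Closed subschemes of `Proj` of a ring generated in degree one
-/

set_option autoImplicit false
universe u

open CategoryTheory CategoryTheory.Limits AlgebraicGeometry TopologicalSpace Opposite
open HomogeneousLocalization

noncomputable section

namespace ProjClosedLib

variable {R A : Type u} [CommRing R] [CommRing A] [Algebra R A] (𝒜 : ℕ → Submodule R A) [GradedAlgebra 𝒜]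
  (s : Finset A) (hs1 : ∀ g ∈ s, g ∈ 𝒜 1) {Z : Scheme.{u}} (i : Z ⟶ Proj 𝒜)

/-- the form `a` of degree `k` vanishes on `Z` -/
def Van {k : ℕ} {a : A} (ha : a ∈ 𝒜 k) : Prop :=
  ∀ (g : A) (hg : g ∈ s), i.app (Proj.basicOpen 𝒜 g) (fr 𝒜 (hs1 g hg) ha) = 0

lemma van_add {k : ℕ} {a b : A} {ha : a ∈ 𝒜 k} {hb : b ∈ 𝒜 k} (h : Van 𝒜 s hs1 i ha)
    (h' : Van 𝒜 s hs1 i hb) : Van 𝒜 s hs1 i (add_mem ha hb) := fun g hg => by
  rw [fr_add 𝒜 _ ha hb, map_add, h g hg, h' g hg, add_zero]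

lemma van_zero (k : ℕ) : Van 𝒜 s hs1 i (zero_mem (𝒜 k)) := fun g hg => by
  rw [fr_zero, map_zero]

lemma van_congr {k : ℕ} {a b : A} (e : a = b) (ha : a ∈ 𝒜 k) (hb : b ∈ 𝒜 k)
    (h : Van 𝒜 s hs1 i ha) : Van 𝒜 s hs1 i hb := by
  subst e; exact h

lemma van_mul {k l : ℕ} {a b : A} (ha : a ∈ 𝒜 k) {hb : b ∈ 𝒜 l} (h : Van 𝒜 s hs1 i hb) :
    Van 𝒜 s hs1 i (SetLike.mul_mem_graded ha hb) := fun g hg => by
  rw [fr_mul 𝒜 _ ha hb, map_mul, h g hg, mul_zero]

/-- the ideal of `Z` -/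
def idealOf : Ideal A := Ideal.span {a | ∃ (k : ℕ) (ha : a ∈ 𝒜 k), Van 𝒜 s hs1 i ha}

lemma idealOf_isHomogeneous : (idealOf 𝒜 s hs1 i).IsHomogeneous 𝒜 :=
  Ideal.homogeneous_span 𝒜 _ fun _ ⟨k, ha, _⟩ => ⟨k, ha⟩

open scoped Classical in
lemma mem_idealOf_iff {k : ℕ} {a : A} (ha : a ∈ 𝒜 k) : a ∈ idealOf 𝒜 s hs1 i ↔ Van 𝒜 s hs1 i ha := by
  refine ⟨fun h => ?_, fun h => Ideal.subset_span ⟨k, ha, h⟩⟩
  suffices H : ∀ x ∈ idealOf 𝒜 s hs1 i, ∀ j, Van 𝒜 s hs1 i (k := j) (SetLike.coe_mem (DirectSum.decompose 𝒜 x j)) from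
    van_congr 𝒜 s hs1 i (DirectSum.decompose_of_mem_same 𝒜 ha) _ ha (H a h k)
  intro x hx
  induction hx using Submodule.span_induction with
  | mem x hx =>
    obtain ⟨l, hl, hv⟩ := hx
    intro j
    by_cases hj : l = j
    · subst hj
      exact van_congr 𝒜 s hs1 i (DirectSum.decompose_of_mem_same 𝒜 hl).symm hl _ hv
    · exact van_congr 𝒜 s hs1 i (DirectSum.decompose_of_mem_ne 𝒜 hl hj).symm (zero_mem _) _
        (van_zero 𝒜 s hs1 i j)
  | zero => exact fun j => van_congr 𝒜 s hs1 i (by simp) (zero_mem _) _ (van_zero 𝒜 s hs1 i j)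
  | add x y _ _ hx hy =>
    exact fun j => van_congr 𝒜 s hs1 i (by simp) (add_mem (SetLike.coe_mem _) (SetLike.coe_mem _)) _
      (van_add 𝒜 s hs1 i (hx j) (hy j))
  | smul c x _ hx =>
    rw [smul_eq_mul]
    induction c using DirectSum.Decomposition.inductionOn 𝒜 with
    | zero => exact fun j => van_congr 𝒜 s hs1 i (by simp) (zero_mem _) _ (van_zero 𝒜 s hs1 i j)
    | @homogeneous l c =>
      intro j
      by_cases hj : l ≤ j
      · obtain ⟨m, rfl⟩ := Nat.exists_eq_add_of_le hj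
        refine van_congr 𝒜 s hs1 i ?_ (SetLike.mul_mem_graded c.2 (SetLike.coe_mem _)) _
          (van_mul 𝒜 s hs1 i c.2 (hx m))
        rw [DirectSum.coe_decompose_mul_of_left_mem_of_le 𝒜 c.2 (Nat.le_add_right l m), Nat.add_sub_cancel_left]
      · exact van_congr 𝒜 s hs1 i
          (DirectSum.coe_decompose_mul_of_left_mem_of_not_le 𝒜 c.2 hj).symm (zero_mem _) _
          (van_zero 𝒜 s hs1 i j)
    | add c c' hc hc' =>
      exact fun j => van_congr 𝒜 s hs1 i (by simp [add_mul]) (add_mem (SetLike.coe_mem _) (SetLike.coe_mem _)) _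
        (van_add 𝒜 s hs1 i (hc j) (hc' j))

variable [IsClosedImmersion i]

/-- a form vanishing on the chart of `g` vanishes after multiplying by a power of `g` -/
theorem exists_pow_mul_van {g : A} (hg : g ∈ s) {k : ℕ} {a : A} (ha : a ∈ 𝒜 k)
    (h : i.app (Proj.basicOpen 𝒜 g) (fr 𝒜 (hs1 g hg) ha) = 0) :
    ∃ (N : ℕ) (hm : g ^ N * a ∈ 𝒜 (N + k)), Van 𝒜 s hs1 i hm := by
  classical
  have hloc : ∀ b : s, ∃ M : ℕ, i.app (Proj.basicOpen 𝒜 b.1) (fr 𝒜 (hs1 _ b.2) (hs1 g hg)) ^ M *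
      i.app (Proj.basicOpen 𝒜 b.1) (fr 𝒜 (hs1 _ b.2) ha) = 0 := by
    rintro ⟨b, hb⟩
    let V := i ⁻¹ᵁ Proj.basicOpen 𝒜 b
    have hV : IsAffineOpen V := (Proj.isAffineOpen_basicOpen 𝒜 b (hs1 b hb) one_pos).preimage i
    let c : Γ(Z, V) := i.app (Proj.basicOpen 𝒜 b) (fr 𝒜 (hs1 _ hb) (hs1 g hg))
    let u : Γ(Z, V) := i.app (Proj.basicOpen 𝒜 b) (fr 𝒜 (hs1 _ hb) ha)
    let W := (Proj 𝒜).basicOpen (fr 𝒜 (hs1 _ hb) (hs1 g hg))
    have hWb : W ≤ Proj.basicOpen 𝒜 b := Scheme.basicOpen_le _ _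
    have hWg : W ≤ Proj.basicOpen 𝒜 g := (basicOpen_fr 𝒜 (hs1 _ hb) (hs1 g hg)).le.trans inf_le_right
    have hD : Z.basicOpen c = i ⁻¹ᵁ W := (Scheme.preimage_basicOpen i _).symm
    have h0 : Z.presheaf.map (homOfLE (i.preimage_mono hWb)).op u = 0 := by
      have e := congrArg (i.app W) (fr_change 𝒜 (hs1 g hg) (hs1 _ hb) ha hWb hWg)
      have n1 : ∀ {D : (Proj 𝒜).Opens} (hD : W ≤ D) (y : Γ(Proj 𝒜, D)),
          i.app W ((Proj 𝒜).presheaf.map (homOfLE hD).op y) =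
            Z.presheaf.map (homOfLE (i.preimage_mono hD)).op (i.app D y) := fun hD y =>
        congrArg (fun f => f y) (congrArg ConcreteCategory.hom (i.naturality (homOfLE hD).op))
      rw [map_mul, map_pow, n1, n1, n1, h, map_zero, mul_zero] at e
      exact e
    have h1 : Z.presheaf.map (homOfLE (Z.basicOpen_le c)).op u = 0 := by
      have e := congrArg (Z.presheaf.map (homOfLE hD.le).op) h0
      rw [map_zero, ← CommRingCat.comp_apply, ← Functor.map_comp] at e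
      exact e
    let : Algebra Γ(Z, V) Γ(Z, Z.basicOpen c) := (Z.presheaf.map (homOfLE (Z.basicOpen_le c)).op).hom.toAlgebra
    have : IsLocalization.Away c Γ(Z, Z.basicOpen c) := hV.isLocalization_basicOpen c
    have h2 : algebraMap Γ(Z, V) Γ(Z, Z.basicOpen c) u = algebraMap Γ(Z, V) Γ(Z, Z.basicOpen c) 0 := by
      rw [map_zero]; exact h1
    obtain ⟨⟨_, M, rfl⟩, hM⟩ := IsLocalization.exists_of_eq (M := Submonoid.powers c) h2
    exact ⟨M, by simpa using hM⟩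
  choose M hM using hloc
  refine ⟨Finset.univ.sup M, SetLike.mul_mem_graded (by simpa using SetLike.pow_mem_graded _ (hs1 g hg)) ha,
    fun b hb => ?_⟩
  have hN : g ^ Finset.univ.sup M ∈ 𝒜 (Finset.univ.sup M) := by
    simpa using SetLike.pow_mem_graded _ (hs1 g hg)
  rw [fr_mul 𝒜 _ hN ha, map_mul, fr_pow 𝒜 _ (hs1 g hg), map_pow]
  exact pow_mul_eq_zero_of_le (Finset.le_sup (Finset.mem_univ ⟨b, hb⟩)) (hM ⟨b, hb⟩)

variable {B : Type u} [CommRing B] [Algebra R B] {ℬ : ℕ → Submodule R B} [GradedAlgebra ℬ] (φ : 𝒜 →+*ᵍ ℬ)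

lemma away_mk_eq_zero {t : B} (ht : t ∈ ℬ 1) {k : ℕ} {b : B} (hb : b ∈ ℬ (k • 1)) :
    Away.mk ℬ ht k b hb = 0 ↔ ∃ N : ℕ, t ^ N * b = 0 := by
  constructor
  · intro h
    have h' := congrArg HomogeneousLocalization.val h
    rw [Away.val_mk, HomogeneousLocalization.val_zero, ← Localization.mk_zero (1 : Submonoid.powers t),
      Localization.mk_eq_mk_iff, Localization.r_iff_exists] at h'
    obtain ⟨⟨_, N, rfl⟩, hc⟩ := h'
    exact ⟨N, by simpa using hc⟩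
  · rintro ⟨N, hN⟩
    apply HomogeneousLocalization.val_injective
    rw [Away.val_mk, HomogeneousLocalization.val_zero, ← Localization.mk_zero (1 : Submonoid.powers t),
      Localization.mk_eq_mk_iff, Localization.r_iff_exists]
    exact ⟨⟨t ^ N, N, rfl⟩, by simpa using hN⟩

include hs1 in
/-- the closed subscheme is the `Proj` of the quotient by its ideal -/
theorem exists_iso (hspan : (HomogeneousIdeal.irrelevant 𝒜).toIdeal ≤ Ideal.span (s : Set A))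
    (hφs : Function.Surjective φ)
    (hker : ∀ (k : ℕ) (a : A) (ha : a ∈ 𝒜 k), φ a = 0 ↔ Van 𝒜 s hs1 i ha)
    (hφ : HomogeneousIdeal.irrelevant ℬ ≤ (HomogeneousIdeal.irrelevant 𝒜).map φ) :
    ∃ e : Z ≅ Proj ℬ, e.hom ≫ Proj.map φ hφ = i := by
  have := isClosedImmersion_map φ hφs hφ
  have hk : i.ker = (Proj.map φ hφ).ker := by
    refine Scheme.IdealSheafData.ext_of_iSup_eq_top
      (fun g : s => ⟨Proj.basicOpen 𝒜 g.1, Proj.isAffineOpen_basicOpen 𝒜 g.1 (hs1 _ g.2) one_pos⟩)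
      (Proj.iSup_basicOpen_eq_top 𝒜 _ (by
        refine hspan.trans (Ideal.span_le.mpr fun x hx => Ideal.subset_span ⟨⟨x, hx⟩, rfl⟩))) fun ⟨g, hg⟩ => ?_
    rw [Scheme.Hom.ker_apply, Scheme.Hom.ker_apply]
    ext y
    obtain ⟨k, a, ha, rfl⟩ := fr_surjective 𝒜 (hs1 g hg) y
    rw [RingHom.mem_ker, RingHom.mem_ker]
    have hrhs : (Proj.map φ hφ).app (Proj.basicOpen 𝒜 g) (fr 𝒜 (hs1 g hg) ha) = 0 ↔
        ∃ N : ℕ, φ (g ^ N * a) = 0 := by
      have hi : IsIso (Proj.awayToSection ℬ (φ g)) := by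
        rw [← Proj.basicOpenIsoAway_hom ℬ (φ g) (φ.map_mem (hs1 g hg)) one_pos]
        infer_instance
      have e := congrArg (fun f => f (Away.mk 𝒜 (hs1 g hg) k a (by rwa [smul_eq_mul, mul_one])))
        (Proj.awayToSection_comp_appLE φ hφ (hs1 g hg))
      simp only [CommRingCat.comp_apply, CommRingCat.hom_ofHom, Away.map_mk] at e
      rw [Scheme.Hom.app_eq_appLE]
      refine (Iff.of_eq (congrArg (· = 0) e)).trans ?_
      refine (map_eq_zero_iff _ (ConcreteCategory.bijective_of_isIso (Proj.awayToSection ℬ (φ g))).1).trans ?_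
      refine (Iff.of_eq (congrArg (· = 0) (Away.map_mk φ g (hs1 g hg) k a (by rwa [smul_eq_mul, mul_one])))).trans ?_
      refine (away_mk_eq_zero _ _).trans ?_
      simp only [map_mul, map_pow]
    refine Iff.trans ?_ hrhs.symm
    constructor
    · intro h
      obtain ⟨N, hm, hv⟩ := exists_pow_mul_van 𝒜 s hs1 i hg ha h
      exact ⟨N, (hker _ _ hm).mpr hv⟩
    · rintro ⟨N, hN⟩
      have hgN : g ^ N ∈ 𝒜 N := by simpa using SetLike.pow_mem_graded N (hs1 g hg)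
      have h := (hker _ _ (SetLike.mul_mem_graded hgN ha)).mp hN g hg
      rwa [fr_mul 𝒜 _ hgN ha, fr_one, one_mul] at h
  let l := IsClosedImmersion.lift (Proj.map φ hφ) i hk.ge
  have : IsIso l := IsClosedImmersion.isIso_lift (Proj.map φ hφ) i hk.symm
  exact ⟨asIso l, IsClosedImmersion.lift_fac _ _ _⟩

end ProjClosedLib

end
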