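import Groth.Agent.TwistLib.PtApp

/-!
# Fractions on the charts of `Proj`
-/

set_option autoImplicit false
universe u

open CategoryTheory CategoryTheory.Limits AlgebraicGeometry TopologicalSpace Opposite TopCat
open HomogeneousLocalization

noncomputable section

namespace ProjClosedLib

variable {R A : Type u} [CommRing R] [CommRing A] [Algebra R A] (𝒜 : ℕ → Submodule R A) [GradedAlgebra 𝒜]

/-- `a / g^k` on `D₊(g)` -/
def fr {g : A} (hg : g ∈ 𝒜 1) {k : ℕ} {a : A} (ha : a ∈ 𝒜 k) : Γ(Proj 𝒜, Proj.basicOpen 𝒜 g) :=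
  Proj.awayToSection 𝒜 g (Away.mk 𝒜 hg k a (by rwa [smul_eq_mul, mul_one]))

variable {g : A} (hg : g ∈ 𝒜 1)

lemma fr_surjective (y : Γ(Proj 𝒜, Proj.basicOpen 𝒜 g)) :
    ∃ (k : ℕ) (a : A) (ha : a ∈ 𝒜 k), fr 𝒜 hg ha = y := by
  have : IsIso (Proj.awayToSection 𝒜 g) := by
    rw [← Proj.basicOpenIsoAway_hom 𝒜 g hg one_pos]
    infer_instance
  obtain ⟨z, rfl⟩ := (ConcreteCategory.bijective_of_isIso (Proj.awayToSection 𝒜 g)).2 y
  obtain ⟨k, a, ha, rfl⟩ := Away.mk_surjective 𝒜 hg z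
  exact ⟨k, a, by rwa [smul_eq_mul, mul_one] at ha, rfl⟩

lemma fr_add {k : ℕ} {a b : A} (ha : a ∈ 𝒜 k) (hb : b ∈ 𝒜 k) :
    fr 𝒜 hg (add_mem ha hb) = fr 𝒜 hg ha + fr 𝒜 hg hb := by
  rw [fr, fr, fr, ← map_add]
  congr 1
  apply HomogeneousLocalization.val_injective
  simp only [HomogeneousLocalization.val_add, Away.val_mk, Localization.add_mk_self]

lemma fr_zero (k : ℕ) : fr 𝒜 hg (zero_mem (𝒜 k)) = 0 := by
  rw [fr]
  refine Eq.trans (congrArg _ ?_) (map_zero (Proj.awayToSection 𝒜 g).hom)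
  apply HomogeneousLocalization.val_injective
  simp only [HomogeneousLocalization.val_zero, Away.val_mk, Localization.mk_zero]

lemma fr_mul {k l : ℕ} {a b : A} (ha : a ∈ 𝒜 k) (hb : b ∈ 𝒜 l) :
    fr 𝒜 hg (SetLike.mul_mem_graded ha hb) = fr 𝒜 hg ha * fr 𝒜 hg hb := by
  rw [fr, fr, fr, ← map_mul]
  congr 1
  apply HomogeneousLocalization.val_injective
  simp only [HomogeneousLocalization.val_mul, Away.val_mk, Localization.mk_mul]
  congr 1
  exact Subtype.ext (pow_add g k l)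

lemma fr_one {k : ℕ} (h : g ^ k ∈ 𝒜 k) : fr 𝒜 hg h = 1 := by
  rw [fr]
  refine Eq.trans (congrArg _ ?_) (map_one (Proj.awayToSection 𝒜 g).hom)
  apply HomogeneousLocalization.val_injective
  simp only [HomogeneousLocalization.val_one, Away.val_mk]
  exact Localization.mk_self (⟨g ^ k, ⟨k, rfl⟩⟩ : Submonoid.powers g)

lemma fr_congr {k : ℕ} {a b : A} (e : a = b) (ha : a ∈ 𝒜 k) (hb : b ∈ 𝒜 k) :
    fr 𝒜 hg ha = fr 𝒜 hg hb := by subst e; rfl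

lemma fr_pow {b : A} (hb : b ∈ 𝒜 1) : ∀ (k : ℕ) (h : b ^ k ∈ 𝒜 k), fr 𝒜 hg h = fr 𝒜 hg hb ^ k
  | 0, h => by
    have h1 : g ^ 0 ∈ 𝒜 0 := by simpa using (SetLike.GradedOne.one_mem : (1 : A) ∈ 𝒜 0)
    exact (fr_congr 𝒜 hg ((pow_zero b).trans (pow_zero g).symm) h h1).trans
      ((fr_one 𝒜 hg h1).trans (pow_zero _).symm)
  | k + 1, h => by
    have hk : b ^ k ∈ 𝒜 k := by simpa using SetLike.pow_mem_graded k hb
    refine (fr_congr 𝒜 hg (pow_succ b k) h (SetLike.mul_mem_graded hk hb)).trans ?_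
    rw [fr_mul 𝒜 hg hk hb, fr_pow hb k hk, pow_succ]

/-- change of chart -/
lemma fr_change {h : A} (hh : h ∈ 𝒜 1) {k : ℕ} {a : A} (ha : a ∈ 𝒜 k) {W : (Proj 𝒜).Opens}
    (hWh : W ≤ Proj.basicOpen 𝒜 h) (hWg : W ≤ Proj.basicOpen 𝒜 g) :
    (Proj 𝒜).presheaf.map (homOfLE hWh).op (fr 𝒜 hh ha) =
      (Proj 𝒜).presheaf.map (homOfLE hWh).op (fr 𝒜 hh hg) ^ k *
        (Proj 𝒜).presheaf.map (homOfLE hWg).op (fr 𝒜 hg ha) := by
  have hgk : g ^ k ∈ 𝒜 k := by simpa using SetLike.pow_mem_graded k hg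
  rw [← map_pow, ← fr_pow 𝒜 hh hg k hgk]
  refine Subtype.ext (funext fun x => HomogeneousLocalization.val_injective _ ?_)
  change (((Proj.awayToSection 𝒜 h).1 _).val ⟨x.1, hWh x.2⟩).val =
    (((Proj.awayToSection 𝒜 h).1 _).val ⟨x.1, hWh x.2⟩ *
      ((Proj.awayToSection 𝒜 g).1 _).val ⟨x.1, hWg x.2⟩).val
  rw [HomogeneousLocalization.val_mul]
  erw [ProjectiveSpectrum.Proj.awayToSection_apply, ProjectiveSpectrum.Proj.awayToSection_apply,
    ProjectiveSpectrum.Proj.awayToSection_apply]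
  simp only [Away.val_mk, Localization.mk_eq_mk', IsLocalization.map_mk', RingHom.id_apply]
  rw [← IsLocalization.mk'_mul, IsLocalization.mk'_eq_iff_eq]
  congr 1
  simp only [Submonoid.coe_mul]
  ring

/-- where `b / g` is invertible -/
lemma basicOpen_fr {b : A} (hb : b ∈ 𝒜 1) :
    (Proj 𝒜).basicOpen (fr 𝒜 hg hb) = Proj.basicOpen 𝒜 g ⊓ Proj.basicOpen 𝒜 b := by
  ext x
  by_cases hx : x ∈ Proj.basicOpen 𝒜 g
  · have h1 := AmpleLib.genAt_smul_iff (show Γ(Proj 𝒜, Proj.basicOpen 𝒜 g) from fr 𝒜 hg hb)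
      (AmpleLib.res (Twist.twist 𝒜 ((1 : ℕ) : ℤ)) (le_top : Proj.basicOpen 𝒜 g ≤ ⊤)
        (Twist.globalOf 𝒜 ⟨g, hg⟩)) hx ((TwistLib.globalOf_genOn 𝒜 hg).genAt hx)
    have e : fr 𝒜 hg hb = Proj.awayToSection 𝒜 g (TwistLib.frac 𝒜 hg hb) := rfl
    rw [e, TwistLib.frac_smul_globalOf 𝒜 hg hb, AmpleLib.genAt_res] at h1
    rw [← e] at h1
    refine Iff.trans ?_ (and_iff_right hx).symm
    refine h1.symm.trans ?_
    exact TwistLib.genAt_globalOf 𝒜 ⟨b, hb⟩ (U := Proj.basicOpen 𝒜 g)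
      ⟨1, 0, g, 1, hg, SetLike.GradedOne.one_mem, by simp, fun z => z.2,
        fun z h => z.1.isPrime.ne_top ((Ideal.eq_top_iff_one _).mpr h)⟩ hx
  · exact ⟨fun h => absurd (Scheme.basicOpen_le _ _ h) hx, fun h => absurd h.1 hx⟩

end ProjClosedLib

end
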