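import Groth.Agent.ProjClosedLib.Main
import Groth.Agent.TwistLib.ProjSymExt

/-!
# Vanishing forms as vanishing sections of `i^* O(d)`
-/

set_option autoImplicit false
universe u

open CategoryTheory CategoryTheory.Limits AlgebraicGeometry TopologicalSpace Opposite TopCat
open HomogeneousLocalization AmpleLib

noncomputable section

namespace ProjClosedLib

variable {R A : Type u} [CommRing R] [CommRing A] [Algebra R A] (𝒜 : ℕ → Submodule R A) [GradedAlgebra 𝒜]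

/-- `a/1 = (a/g^k) (g^k/1)` -/
theorem fr_smul_globalOf {g : A} (hg : g ∈ 𝒜 1) {k : ℕ} {a : A} (ha : a ∈ 𝒜 k) (hgk : g ^ k ∈ 𝒜 k) :
    (show Γ(Proj 𝒜, Proj.basicOpen 𝒜 g) from fr 𝒜 hg ha) •
      AmpleLib.res (Twist.twist 𝒜 (k : ℤ)) (le_top : Proj.basicOpen 𝒜 g ≤ ⊤)
        (Twist.globalOf 𝒜 ⟨g ^ k, hgk⟩) =
      AmpleLib.res (Twist.twist 𝒜 (k : ℤ)) (le_top : Proj.basicOpen 𝒜 g ≤ ⊤)
        (Twist.globalOf 𝒜 ⟨a, ha⟩) := by
  refine TwistLib.sec_ext fun x => ?_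
  rw [TwistLib.val_smul, TwistLib.val_res, TwistLib.val_res]
  erw [ProjectiveSpectrum.Proj.awayToSection_apply]
  rw [Away.val_mk, Localization.mk_eq_mk', IsLocalization.map_mk']
  change IsLocalization.mk' (Twist.Loc 𝒜 x.1) a _ * Localization.mk (g ^ k) _ = Localization.mk a _
  rw [← Localization.mk_eq_mk', Localization.mk_mul, Localization.mk_eq_mk_iff, Localization.r_iff_exists]
  exact ⟨1, by simp [mul_comm]⟩

theorem globalOf_pow_genOn {g : A} (hg : g ∈ 𝒜 1) {k : ℕ} (hgk : g ^ k ∈ 𝒜 k) :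
    GenOn (Twist.twist 𝒜 (k : ℤ))
      (res (Twist.twist 𝒜 (k : ℤ)) (le_top : Proj.basicOpen 𝒜 g ≤ ⊤) (Twist.globalOf 𝒜 ⟨g ^ k, hgk⟩)) :=
  TwistLib.Unit'.genOn (U := Proj.basicOpen 𝒜 g) ⟨k, 0, g ^ k, 1, hgk, SetLike.GradedOne.one_mem, by simp,
    fun x h => x.2 (x.1.isPrime.mem_of_pow_mem k h),
    fun x h => x.1.isPrime.ne_top ((Ideal.eq_top_iff_one _).mpr h)⟩

theorem van_iff_puSec (s : Finset A) (hs1 : ∀ g ∈ s, g ∈ 𝒜 1)
    (hspan : (HomogeneousIdeal.irrelevant 𝒜).toIdeal ≤ Ideal.span (s : Set A))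
    {Z : Scheme.{u}} (i : Z ⟶ Proj 𝒜) {k : ℕ} {a : A} (ha : a ∈ 𝒜 k) :
    Van 𝒜 s hs1 i ha ↔
      KFlatLib.puSec i (show Γ(Twist.twist 𝒜 (k : ℤ), ⊤) from Twist.globalOf 𝒜 ⟨a, ha⟩) = 0 := by
  let Ok := Twist.twist 𝒜 (k : ℤ)
  have key : ∀ (g : A) (hg : g ∈ s),
      res (KFlatLib.pb i Ok) (le_top : i ⁻¹ᵁ Proj.basicOpen 𝒜 g ≤ i ⁻¹ᵁ ⊤)
        (KFlatLib.puSec i (show Γ(Ok, ⊤) from Twist.globalOf 𝒜 ⟨a, ha⟩)) = 0 ↔
      i.app (Proj.basicOpen 𝒜 g) (fr 𝒜 (hs1 g hg) ha) = 0 := by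
    intro g hg
    have hgk : g ^ k ∈ 𝒜 k := by simpa using SetLike.pow_mem_graded k (hs1 g hg)
    let u : Γ(Ok, Proj.basicOpen 𝒜 g) := res Ok le_top (Twist.globalOf 𝒜 ⟨g ^ k, hgk⟩)
    have hu : GenOn (KFlatLib.pb i Ok) (KFlatLib.puSec i u) :=
      TwistLib.genOn_of_genAt fun x hx => TwistLib.GenAt.puSec i ((globalOf_pow_genOn 𝒜 (hs1 g hg) hgk).genAt hx)
    have e := congrArg (KFlatLib.puSec i) (fr_smul_globalOf 𝒜 (hs1 g hg) ha hgk)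
    rw [TwistLib.puSec_smul, TwistLib.puSec_res i le_top (show Γ(Ok, ⊤) from Twist.globalOf 𝒜 ⟨a, ha⟩)] at e
    refine (Iff.of_eq (congrArg (· = 0) e)).symm.trans ⟨fun h => (hu _ le_rfl).1 ?_, fun h => ?_⟩
    · simp only [res_refl, zero_smul]
      exact h
    · exact (congrArg (· • KFlatLib.puSec i u) h).trans (zero_smul _ _)
  refine ⟨fun h => ?_, fun h g hg => (key g hg).mp ((congrArg (res (KFlatLib.pb i Ok) _) h).trans (map_zero _))⟩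
  refine TwistLib.mod_ext _ fun x _ => ?_
  rw [map_zero]
  obtain ⟨⟨g, hg⟩, hx⟩ := Opens.mem_iSup.mp (show i x ∈ ⨆ g : s, Proj.basicOpen 𝒜 (g : A) by
    rw [Proj.iSup_basicOpen_eq_top 𝒜 _ (hspan.trans (Ideal.span_le.mpr fun y hy => Ideal.subset_span ⟨⟨y, hy⟩, rfl⟩))]
    trivial)
  refine (germ_res (KFlatLib.pb i Ok) (le_top : i ⁻¹ᵁ Proj.basicOpen 𝒜 g ≤ i ⁻¹ᵁ ⊤) _ hx).symm.trans ?_
  rw [(key g hg).mpr (h g hg), map_zero]

end ProjClosedLib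

end
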