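import Mathlib.RingTheory.GradedAlgebra.Homogeneous.Ideal
import Mathlib.RingTheory.GradedAlgebra.RingHom
import Mathlib.RingTheory.Ideal.Quotient.Operations

/-!
# Quotients of graded algebras by homogeneous ideals
-/

set_option autoImplicit false
universe u

open DirectSum

noncomputable section

namespace ProjClosedLib

variable {R A : Type u} [CommRing R] [CommRing A] [Algebra R A] (𝒜 : ℕ → Submodule R A) [GradedAlgebra 𝒜]
  (I : Ideal A)

/-- the image grading -/
def quotGr (k : ℕ) : Submodule R (A ⧸ I) := (𝒜 k).map (Ideal.Quotient.mkₐ R I).toLinearMap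

instance : SetLike.GradedMonoid (quotGr 𝒜 I) where
  one_mem := ⟨1, SetLike.GradedOne.one_mem, map_one (Ideal.Quotient.mk I)⟩
  mul_mem := by
    rintro i j _ _ ⟨x, hx, rfl⟩ ⟨y, hy, rfl⟩
    exact ⟨x * y, SetLike.GradedMul.mul_mem hx hy, map_mul (Ideal.Quotient.mk I) _ _⟩

theorem isInternal_quotGr (h : I.IsHomogeneous 𝒜) : DirectSum.IsInternal (quotGr 𝒜 I) := by
  classical
  let q : ∀ i, 𝒜 i →+ quotGr 𝒜 I i := fun i =>
    AddMonoidHom.mk' (fun x => ⟨Ideal.Quotient.mk I x.1, x.1, x.2, rfl⟩) fun x y => Subtype.ext (map_add _ _ _)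
  let L : A →+ ⨁ i, quotGr 𝒜 I i := (DirectSum.map q).comp (decomposeAddEquiv 𝒜).toAddMonoidHom
  have hL : ∀ (x : A) i, ((L x i : quotGr 𝒜 I i) : A ⧸ I) = Ideal.Quotient.mk I (decompose 𝒜 x i : A) := fun x i => by
    show ((DirectSum.map q (decompose 𝒜 x) i : quotGr 𝒜 I i) : A ⧸ I) = _
    rw [DirectSum.map_apply]
    rfl
  have hker : I.toAddSubgroup ≤ L.ker := fun x hx => by
    refine DFinsupp.ext fun i => Subtype.ext ?_
    rw [hL]
    exact Ideal.Quotient.eq_zero_iff_mem.2 (h i hx)
  let L' : A ⧸ I →+ ⨁ i, quotGr 𝒜 I i := QuotientAddGroup.lift I.toAddSubgroup L hker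
  have hleft : ∀ x, DirectSum.coeAddMonoidHom (quotGr 𝒜 I) (L x) = Ideal.Quotient.mk I x := by
    intro x
    suffices ((DirectSum.coeAddMonoidHom (quotGr 𝒜 I)).comp L) = (Ideal.Quotient.mk I : A →+ A ⧸ I) from
      DFunLike.congr_fun this x
    refine AddMonoidHom.ext fun y => ?_
    induction y using Decomposition.inductionOn 𝒜 with
    | zero => simp
    | homogeneous m =>
      show DirectSum.coeAddMonoidHom (quotGr 𝒜 I) (DirectSum.map q (decompose 𝒜 (m : A))) = _
      rw [decompose_coe, DirectSum.map_of, DirectSum.coeAddMonoidHom_of]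
      rfl
    | add a b ha hb => rw [map_add, map_add, ha, hb]
  constructor
  · refine Function.LeftInverse.injective (g := L') fun z => ?_
    induction z using DirectSum.induction_on with
    | zero => simp
    | of i y =>
      obtain ⟨y, x, hx, rfl⟩ := y
      rw [DirectSum.coeAddMonoidHom_of]
      show L x = _
      show DirectSum.map q (decompose 𝒜 x) = _
      rw [decompose_of_mem 𝒜 hx, DirectSum.map_of]
      rfl
    | add a b ha hb => rw [map_add, map_add, ha, hb]
  · intro z
    obtain ⟨x, rfl⟩ := Ideal.Quotient.mk_surjective z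
    exact ⟨L x, hleft x⟩

/-- the graded algebra on the quotient -/
def gradedQuot (h : I.IsHomogeneous 𝒜) : GradedAlgebra (quotGr 𝒜 I) :=
  { (inferInstance : SetLike.GradedMonoid (quotGr 𝒜 I)), (isInternal_quotGr 𝒜 I h).chooseDecomposition _ with }

/-- the quotient map -/
def quotHom : 𝒜 →+*ᵍ quotGr 𝒜 I where
  __ := Ideal.Quotient.mk I
  map_mem {_ x} hx := ⟨x, hx, rfl⟩

end ProjClosedLib

end
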